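import Groth.Agent.H27Prod.Fibre
import Groth.Agent.H17.InvertibleTensor

/-!
# Castelnuovo–Severi inequality on a product of two curves
-/

set_option autoImplicit false
set_option linter.style.haveILetI false
set_option linter.unusedSectionVars false
set_option backward.isDefEq.respectTransparency.types false
universe u

open CategoryTheory CategoryTheory.Limits AlgebraicGeometry

namespace Groth.Agent.H27Prod

open Groth.Agent.H28Surf (pr)

variable (k : Type u) [Field k] {S : Scheme.{u}} [S.Over (Spec (CommRingCat.of k))]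
  [IsProper (S ↘ Spec (CommRingCat.of k))]

/-- Integer multiples of a class, as far as the pairing sees. -/
theorem exists_smul (hdim : topologicalKrullDim S = 2) {F : S.Modules} (hF : PicF.IsInvertible F) (a : ℤ) :
    ∃ G : S.Modules, PicF.IsInvertible G ∧ ∀ B, PicF.IsInvertible B → pr k G B = a * pr k F B := by
  obtain ⟨F', hF', ⟨e⟩⟩ := H11Sym.exists_inverse hF
  rcases le_total 0 a with h0 | h0
  · obtain ⟨j, rfl⟩ := Int.eq_ofNat_of_zero_le h0
    exact ⟨_, H11Ample.isInvertible_tensorPow hF j, fun B hB => H28Surf.pr_pow_left k hdim hF hB j⟩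
  · obtain ⟨j, hj⟩ := Int.eq_ofNat_of_zero_le (neg_nonneg.2 h0)
    refine ⟨_, H11Ample.isInvertible_tensorPow hF' j, fun B hB => ?_⟩
    rw [H28Surf.pr_pow_left k hdim hF' hB,
      H28Surf.pr_inv_left k hdim hF hF' hB (H11Ample.tensorCommIso F F' ≪≫ e), ← hj]
    ring

/-- Integer combinations of two classes. -/
theorem exists_comb (hdim : topologicalKrullDim S = 2) {F G : S.Modules} (hF : PicF.IsInvertible F)
    (hG : PicF.IsInvertible G) (a b : ℤ) :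
    ∃ Z : S.Modules, PicF.IsInvertible Z ∧ (∀ B, PicF.IsInvertible B → pr k Z B = a * pr k F B + b * pr k G B) ∧
      pr k Z Z = a * a * pr k F F + 2 * (a * b) * pr k F G + b * b * pr k G G := by
  obtain ⟨F₁, hF₁, eF⟩ := exists_smul k hdim hF a
  obtain ⟨G₁, hG₁, eG⟩ := exists_smul k hdim hG b
  have hZ : PicF.IsInvertible (CohB1.tensorMod F₁ G₁) := H11Ample.isInvertible_tensor hF₁ hG₁
  have h : ∀ B, PicF.IsInvertible B → pr k (CohB1.tensorMod F₁ G₁) B = a * pr k F B + b * pr k G B := fun B hB => by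
    rw [H28Surf.pr_tensor_left k hdim hF₁ hG₁ hB, eF B hB, eG B hB]
  refine ⟨_, hZ, h, ?_⟩
  rw [h _ hZ, H28Surf.pr_symm k F, H28Surf.pr_symm k G (CohB1.tensorMod F₁ G₁), h F hF, h G hG,
    H28Surf.pr_symm k G F]
  ring

variable [IsAlgClosed k] [Smooth (S ↘ Spec (CommRingCat.of k))] [IsIntegral S]

/-- A class orthogonal to a class of positive square has nonpositive square. -/
theorem pr_self_nonpos_of_orth_pos (hdim : topologicalKrullDim S = 2) {H G X : S.Modules} (hH : CohB1.IsAmple H)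
    (hG : PicF.IsInvertible G) (hX : PicF.IsInvertible X) (hGG : 0 < pr k G G) (horth : pr k X G = 0) :
    pr k X X ≤ 0 := by
  have hHi := (H11Ample.isAmple_iff.1 hH).1
  have ha : pr k G H ≠ 0 := fun h => by
    have := H28Surf.pr_self_nonpos k hdim hH hG h
    linarith
  obtain ⟨Z, hZ, hZB, hZZ⟩ := exists_comb k hdim hX hG (pr k G H) (- pr k X H)
  have h0 : pr k Z H = 0 := by rw [hZB H hHi]; ring
  have h1 := H28Surf.pr_self_nonpos k hdim hH hZ h0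
  rw [hZZ, horth] at h1
  have ha2 : 0 < pr k G H * pr k G H := mul_self_pos.2 ha
  nlinarith [mul_nonneg (mul_self_nonneg (pr k X H)) hGG.le]

/-- The form is negative semidefinite on the orthogonal of a class of positive square. -/
theorem pr_sq_le_of_orth_pos (hdim : topologicalKrullDim S = 2) {H G X Y : S.Modules} (hH : CohB1.IsAmple H)
    (hG : PicF.IsInvertible G) (hX : PicF.IsInvertible X) (hY : PicF.IsInvertible Y) (hGG : 0 < pr k G G)
    (hXG : pr k X G = 0) (hYG : pr k Y G = 0) : pr k X Y ^ 2 ≤ pr k X X * pr k Y Y := by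
  have key : ∀ m n : ℤ, m * m * pr k X X + 2 * (m * n) * pr k X Y + n * n * pr k Y Y ≤ 0 := by
    intro m n
    obtain ⟨Z, hZ, hZB, hZZ⟩ := exists_comb k hdim hX hY m n
    rw [← hZZ]
    exact pr_self_nonpos_of_orth_pos k hdim hH hG hZ hGG (by rw [hZB G hG, hXG, hYG]; ring)
  rcases lt_or_eq_of_le (pr_self_nonpos_of_orth_pos k hdim hH hG hX hGG hXG) with hA | hA
  · nlinarith [key (pr k X Y) (- pr k X X)]
  · have h := key (pr k X Y * (|pr k Y Y| + 1)) 1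
    rw [hA] at h ⊢
    by_contra hc
    have hB : 1 ≤ pr k X Y * pr k X Y := by nlinarith
    nlinarith [neg_abs_le (pr k Y Y), abs_nonneg (pr k Y Y), mul_le_mul_of_nonneg_right hB (show (0 : ℤ) ≤ |pr k Y Y| + 1 by positivity)]

end Groth.Agent.H27Prod

namespace Groth.Agent.H27Prod

open Groth.Agent.H28Surf (pr)

variable (k : Type u) [Field k] [IsAlgClosed k] {C₁ C₂ : Scheme.{u}} [C₁.Over (Spec (CommRingCat.of k))]
  [C₂.Over (Spec (CommRingCat.of k))]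

/-- The equivalence defect inequality on a product of two curves. -/
theorem severi (h₁ : Curve.IsSmoothProperCurve k C₁ (C₁ ↘ Spec (CommRingCat.of k)))
    (h₂ : Curve.IsSmoothProperCurve k C₂ (C₂ ↘ Spec (CommRingCat.of k)))
    (x : Spec (CommRingCat.of k) ⟶ C₁) (hx : x ≫ (C₁ ↘ Spec (CommRingCat.of k)) = 𝟙 _)
    (y : Spec (CommRingCat.of k) ⟶ C₂) (hy : y ≫ (C₂ ↘ Spec (CommRingCat.of k)) = 𝟙 _)
    (i₁ : C₁ ⟶ pullback (C₁ ↘ Spec (CommRingCat.of k)) (C₂ ↘ Spec (CommRingCat.of k)))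
    (hi₁ : i₁ ≫ pullback.fst _ _ = 𝟙 C₁ ∧ i₁ ≫ pullback.snd _ _ = (C₁ ↘ Spec (CommRingCat.of k)) ≫ y)
    (i₂ : C₂ ⟶ pullback (C₁ ↘ Spec (CommRingCat.of k)) (C₂ ↘ Spec (CommRingCat.of k)))
    (hi₂ : i₂ ≫ pullback.snd _ _ = 𝟙 C₂ ∧ i₂ ≫ pullback.fst _ _ = (C₂ ↘ Spec (CommRingCat.of k)) ≫ x)
    (L M L' M' : (pullback (C₁ ↘ Spec (CommRingCat.of k)) (C₂ ↘ Spec (CommRingCat.of k))).Modules)
    (hL : PicF.IsInvertible L) (hM : Nonempty (CohB1.tensorMod L M ≅ Coh.structureModule _))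
    (hL' : PicF.IsInvertible L') (hM' : Nonempty (CohB1.tensorMod L' M' ≅ Coh.structureModule _)) :
    letI : (pullback (C₁ ↘ Spec (CommRingCat.of k)) (C₂ ↘ Spec (CommRingCat.of k))).Over
        (Spec (CommRingCat.of k)) := ⟨pullback.fst _ _ ≫ (C₁ ↘ Spec (CommRingCat.of k))⟩
    let a := Curv2.deg k C₁ ((Scheme.Modules.pullback i₁).obj L) 1
    let b := Curv2.deg k C₂ ((Scheme.Modules.pullback i₂).obj L) 1
    let a' := Curv2.deg k C₁ ((Scheme.Modules.pullback i₁).obj L') 1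
    let b' := Curv2.deg k C₂ ((Scheme.Modules.pullback i₂).obj L') 1
    let n := fun A B => FGA.intNum k (pullback (C₁ ↘ Spec (CommRingCat.of k)) (C₂ ↘ Spec (CommRingCat.of k))) 2 ![A, B]
      (Coh.structureModule _)
    n M M ≤ 2 * a * b ∧ (n M M' - a * b' - b * a') ^ 2 ≤ (2 * a * b - n M M) * (2 * a' * b' - n M' M') := by
  letI : (pullback (C₁ ↘ Spec (CommRingCat.of k)) (C₂ ↘ Spec (CommRingCat.of k))).Over
        (Spec (CommRingCat.of k)) := ⟨pullback.fst _ _ ≫ (C₁ ↘ Spec (CommRingCat.of k))⟩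
  intro a b a' b' n
  obtain ⟨hp, hs, hint, hdim, H, hH⟩ := product_props k h₁ h₂
  haveI := hp; haveI := hs; haveI := hint
  haveI := h₁.1; haveI := h₂.1; haveI := h₁.2.2.1; haveI := h₂.2.2.1
  let q₁ := C₁ ↘ Spec (CommRingCat.of k)
  let q₂ := C₂ ↘ Spec (CommRingCat.of k)
  have w₂ : i₂ ≫ pullback.fst q₁ q₂ ≫ q₁ = q₂ := by
    rw [← Category.assoc, hi₂.2, Category.assoc, hx, Category.comp_id]
  have w₁ : i₁ ≫ pullback.fst q₁ q₂ ≫ q₁ = q₁ := by rw [← Category.assoc, hi₁.1, Category.id_comp]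
  have pb₂ : IsPullback i₂ q₂ (pullback.fst q₁ q₂) x := by
    refine IsPullback.of_right (h₁₂ := pullback.snd q₁ q₂) (v₁₃ := q₂) (h₂₂ := q₁) ?_ hi₂.2
      (IsPullback.of_hasPullback q₁ q₂).flip
    rw [hi₂.1, hx]
    exact IsPullback.of_horiz_isIso ⟨by simp⟩
  have pb₁ : IsPullback i₁ q₁ (pullback.snd q₁ q₂) y := by
    refine IsPullback.of_right (h₁₂ := pullback.fst q₁ q₂) (v₁₃ := q₁) (h₂₂ := q₂) ?_ hi₁.2
      (IsPullback.of_hasPullback q₁ q₂)
    rw [hi₁.1, hy]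
    exact IsPullback.of_horiz_isIso ⟨by simp⟩
  obtain ⟨F₁, hF₁, e₁, f₁₁, f₁₂⟩ := exists_fibre_class k hdim h₁ h₂.2.2.2 (pullback.fst q₁ q₂) i₂ w₂ x hx pb₂
  obtain ⟨F₂, hF₂, e₂, f₂₂, f₂₁⟩ := exists_fibre_class k hdim h₂ h₁.2.2.2 (pullback.snd q₁ q₂) i₁ w₁ y hy pb₁
  have v₁₁ : pr k F₁ F₁ = 0 := (e₁ F₁ hF₁).trans f₁₁
  have v₂₂ : pr k F₂ F₂ = 0 := (e₂ F₂ hF₂).trans f₂₂
  have v₂₁ : pr k F₂ F₁ = 1 := (e₂ F₁ hF₁).trans (f₁₂ i₁ hi₁.1)
  have v₁₂ : pr k F₁ F₂ = 1 := (H28Surf.pr_symm k F₁ F₂).trans v₂₁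
  obtain ⟨G, hG, hGB, hGG⟩ := exists_comb k hdim hF₁ hF₂ 1 1
  have hpos : 0 < pr k G G := by rw [hGG, v₁₁, v₂₂, v₁₂]; norm_num
  obtain ⟨P, hP, hPB, hPP⟩ := exists_comb k hdim hF₁ hF₂ (-a) (-b)
  obtain ⟨P', hP', hPB', hPP'⟩ := exists_comb k hdim hF₁ hF₂ (-a') (-b')
  obtain ⟨X, hX, hXB, hXX⟩ := exists_comb k hdim hL hP 1 1
  obtain ⟨X', hX', hXB', hXX'⟩ := exists_comb k hdim hL' hP' 1 1
  have l₁ : pr k L F₁ = b := (H28Surf.pr_symm k L F₁).trans (e₁ L hL)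
  have l₂ : pr k L F₂ = a := (H28Surf.pr_symm k L F₂).trans (e₂ L hL)
  have l₁' : pr k L' F₁ = b' := (H28Surf.pr_symm k L' F₁).trans (e₁ L' hL')
  have l₂' : pr k L' F₂ = a' := (H28Surf.pr_symm k L' F₂).trans (e₂ L' hL')
  have hXG : pr k X G = 0 := by
    rw [hXB G hG, H28Surf.pr_symm k L G, hGB L hL, H28Surf.pr_symm k F₁ L, H28Surf.pr_symm k F₂ L, l₁, l₂,
      hPB G hG, H28Surf.pr_symm k F₁ G, H28Surf.pr_symm k F₂ G, hGB F₁ hF₁, hGB F₂ hF₂, v₁₁, v₂₁, v₁₂, v₂₂]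
    ring
  have hXG' : pr k X' G = 0 := by
    rw [hXB' G hG, H28Surf.pr_symm k L' G, hGB L' hL', H28Surf.pr_symm k F₁ L', H28Surf.pr_symm k F₂ L', l₁', l₂',
      hPB' G hG, H28Surf.pr_symm k F₁ G, H28Surf.pr_symm k F₂ G, hGB F₁ hF₁, hGB F₂ hF₂, v₁₁, v₂₁, v₁₂, v₂₂]
    ring
  have hself : pr k X X = pr k L L - 2 * a * b := by
    rw [hXX, H28Surf.pr_symm k L P, hPB L hL, H28Surf.pr_symm k F₁ L, H28Surf.pr_symm k F₂ L, l₁, l₂,
      hPP, v₁₁, v₁₂, v₂₂]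
    ring
  have hself' : pr k X' X' = pr k L' L' - 2 * a' * b' := by
    rw [hXX', H28Surf.pr_symm k L' P', hPB' L' hL', H28Surf.pr_symm k F₁ L', H28Surf.pr_symm k F₂ L', l₁', l₂',
      hPP', v₁₁, v₁₂, v₂₂]
    ring
  have hmix : pr k X X' = pr k L L' - a * b' - b * a' := by
    rw [hXB X' hX', H28Surf.pr_symm k L X', hXB' L hL, H28Surf.pr_symm k L' L,
      hPB' L hL, H28Surf.pr_symm k F₁ L, H28Surf.pr_symm k F₂ L, l₁, l₂,
      hPB X' hX', H28Surf.pr_symm k F₁ X', H28Surf.pr_symm k F₂ X', hXB' F₁ hF₁, hXB' F₂ hF₂,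
      hPB' F₁ hF₁, hPB' F₂ hF₂, v₁₁, v₂₁, v₁₂, v₂₂, l₁', l₂']
    ring
  obtain ⟨eM⟩ := hM
  obtain ⟨eM'⟩ := hM'
  have hMi := H17.InvertibleTensor.isInvertible_of_tensor_iso M L (H11Ample.tensorCommIso M L ≪≫ eM)
  have hMi' := H17.InvertibleTensor.isInvertible_of_tensor_iso M' L' (H11Ample.tensorCommIso M' L' ≪≫ eM')
  have inv : ∀ {A A' B B' : (pullback q₁ q₂).Modules}, PicF.IsInvertible A → PicF.IsInvertible A' →
      PicF.IsInvertible B → PicF.IsInvertible B' → (CohB1.tensorMod A A' ≅ Coh.structureModule _) →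
      (CohB1.tensorMod B B' ≅ Coh.structureModule _) → n A' B' = pr k A B := by
    intro A A' B B' hA hA' hB hB' eA eB
    rw [show n A' B' = pr k A' B' from H28Surf.intNum_eq_pr k hdim hA' hB', H28Surf.pr_inv_left k hdim hA hA' hB' eA,
      H28Surf.pr_symm k A B', H28Surf.pr_inv_left k hdim hB hB' hA eB, H28Surf.pr_symm k B A, neg_neg]
  rw [inv hL hMi hL hMi eM eM, inv hL hMi hL' hMi' eM eM', inv hL' hMi' hL' hMi' eM' eM']
  have h0 := pr_self_nonpos_of_orth_pos k hdim hH hG hX hpos hXG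
  have h1 := pr_sq_le_of_orth_pos k hdim hH hG hX hX' hpos hXG hXG'
  rw [hself] at h0 h1
  rw [hmix, hself'] at h1
  constructor <;> nlinarith

end Groth.Agent.H27Prod
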