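import Groth.Agent.H28Surf.Pair
import Groth.Agent.H28Vert.Symm
import Groth.Agent.H28Int.Curves
import Groth.Agent.H28Int.Divisor
import Groth.Agent.H12Pic.CurveFam.ComapIdeal
import Groth.Agent.H29RR.Points
import Groth.Agent.H22Alg.CurveQProj
import Groth.Agent.H8Props.AmpleBatch
import Groth.Agent.H27CurveDiv.RelDim
import Groth.Agent.H19Grp.AlgClosedGeom
import Groth.Agent.S8914
import Groth.Agent.S11747
import Groth.Agent.H29RR.GenPoint
import Groth.Agent.H29RR.PointAux
import Groth.Agent.H29RR.CurveIntegral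

/-!
# Fibres of a product of two curves as divisors
-/

set_option autoImplicit false
set_option linter.style.haveILetI false
set_option linter.unusedSectionVars false
set_option backward.isDefEq.respectTransparency.types false
universe u

open CategoryTheory CategoryTheory.Limits AlgebraicGeometry

namespace Groth.Agent.H27Prod

open Groth.Agent.H28Int

variable (k : Type u) [Field k]

section point

variable {C : Scheme.{u}} [C.Over (Spec (CommRingCat.of k))] [IsProper (C ↘ Spec (CommRingCat.of k))]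

/-- A rational point is a closed immersion. -/
theorem isClosedImmersion_section (x : Spec (CommRingCat.of k) ⟶ C)
    (hx : x ≫ (C ↘ Spec (CommRingCat.of k)) = 𝟙 _) : IsClosedImmersion x := by
  haveI : IsClosedImmersion (x ≫ (C ↘ Spec (CommRingCat.of k))) := by rw [hx]; infer_instance
  exact IsClosedImmersion.of_comp x (C ↘ Spec (CommRingCat.of k))

/-- The degree as a symbol. -/
theorem deg_eq_D {L : C.Modules} (hL : PicF.IsInvertible L) :
    Curv2.deg k C L 1 = - D k [L] (Coh.structureModule C) := by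
  show Curv2.euler k C L - _ = -(Curv2.euler k C _ - Curv2.euler k C _)
  rw [H25Euler.euler_congr (H10Coh.Tw.rightUnitIso L)]
  push_cast
  ring

/-- The degree is additive. -/
theorem deg_tensor (hC : topologicalKrullDim C ≤ ((1 : ℕ) : WithBot ℕ∞)) {L L' : C.Modules}
    (hL : PicF.IsInvertible L) (hL' : PicF.IsInvertible L') :
    Curv2.deg k C (CohB1.tensorMod L L') 1 = Curv2.deg k C L 1 + Curv2.deg k C L' 1 := by
  haveI := H28Int.isNoetherian k (X := C)
  rw [deg_eq_D k (H11Ample.isInvertible_tensor hL hL'), deg_eq_D k hL, deg_eq_D k hL',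
    D_cons_tensor k (l := []) (by simp) hL hL' (H10Coh.isCoh_structureModule' C)
      (by simpa using Topology.IsInducing.subtypeVal.topologicalKrullDim_le.trans hC)]
  ring

theorem deg_congr {L L' : C.Modules} (e : L ≅ L') : Curv2.deg k C L 1 = Curv2.deg k C L' 1 := by
  simp only [Curv2.deg, H25Euler.euler_congr e]

theorem deg_structure : Curv2.deg k C (Coh.structureModule C) 1 = 0 := by
  simp [Curv2.deg]

/-- A divisor class of degree one at a rational point, inverse to its ideal. -/
theorem exists_point_class [IsAlgClosed k] (hC : Curve.IsSmoothProperCurve k C (C ↘ Spec (CommRingCat.of k)))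
    (x : Spec (CommRingCat.of k) ⟶ C) (hx : x ≫ (C ↘ Spec (CommRingCat.of k)) = 𝟙 _) :
    ∃ N : C.Modules, PicF.IsInvertible N ∧ PicF.IsInvertible (ClSub.idealMod x.ker) ∧
      Nonempty (CohB1.tensorMod (ClSub.idealMod x.ker) N ≅ Coh.structureModule C) ∧ Curv2.deg k C N 1 = 1 := by
  obtain ⟨-, hsm, hint, hdim⟩ := hC
  haveI := H29RR.isNoetherian_of_proper (k := k) (X := C)
  haveI := isClosedImmersion_section k x hx
  let pt := x (IsLocalRing.closedPoint k)
  let φ := C.descResidueField (Scheme.stalkClosedPointTo x)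
  have hfac : Spec.map φ ≫ C.fromSpecResidueField pt = x :=
    (Scheme.SpecToEquivOfField k C).left_inv x
  have hcl : IsClosed ({pt} : Set C) := by
    have h : Set.range x = {pt} := Set.eq_singleton_iff_unique_mem.2 ⟨⟨_, rfl⟩, by
      rintro _ ⟨y, rfl⟩; exact congrArg x (Subsingleton.elim (α := PrimeSpectrum k) _ _)⟩
    rw [← h]; exact x.isClosedEmbedding.isClosed_range
  haveI := H29RR.isClosedImmersion_pt hcl
  haveI : IsClosedImmersion (Spec.map φ ≫ C.fromSpecResidueField pt) := hfac.symm ▸ inferInstance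
  haveI : IsClosedImmersion (Spec.map φ) := IsClosedImmersion.of_comp _ (C.fromSpecResidueField pt)
  haveI : Surjective (Spec.map φ) := ⟨fun y => ⟨IsLocalRing.closedPoint k,
    Subsingleton.elim (α := PrimeSpectrum (C.residueField pt)) _ _⟩⟩
  haveI : IsIso (Spec.map φ) := isIso_of_isClosedImmersion_of_surjective _
  have hker : x.ker = H29RR.ptIdeal pt := by
    rw [← hfac]; exact Scheme.Hom.ker_comp_of_isIso (Spec.map φ) (C.fromSpecResidueField pt)
  have hI : PicF.IsInvertible (ClSub.idealMod x.ker) := by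
    haveI := H19Grp.isRegularLocalRing_stalk_of_smooth (C ↘ Spec (CommRingCat.of k)) pt
    rw [hker]; exact H29RR.isInvertible_pt_of_regular (k := k) hdim hcl
  obtain ⟨N, hN, ⟨e⟩⟩ := H11Sym.exists_inverse hI
  refine ⟨N, hN, hI, ⟨H11Ample.tensorCommIso _ _ ≪≫ e⟩, ?_⟩
  have h := deg_tensor k hdim.le hN hI
  rw [deg_congr k e, deg_structure] at h
  obtain ⟨-, -, h'⟩ := H29RR.twist_point (k := k) hcl (H28Int.isInvertible_structureModule C)
    (by rw [← hker]; exact (H11Ample.isCoh_of_isInvertible hI))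
  rw [H25Euler.euler_congr (H10Coh.Tw.rightUnitIso (ClSub.idealMod (H29RR.ptIdeal pt))),
    H29RR.finrank_residue_eq_one hcl, ← hker] at h'
  simp only [Curv2.deg] at h ⊢
  push_cast at h h' ⊢
  linarith

end point

section product

variable {C₁ C₂ : Scheme.{u}} [C₁.Over (Spec (CommRingCat.of k))] [C₂.Over (Spec (CommRingCat.of k))]

/-- A product of two curves over an algebraically closed field is a smooth proper integral surface. -/
theorem product_props [IsAlgClosed k] (h₁ : Curve.IsSmoothProperCurve k C₁ (C₁ ↘ Spec (CommRingCat.of k)))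
    (h₂ : Curve.IsSmoothProperCurve k C₂ (C₂ ↘ Spec (CommRingCat.of k))) :
    letI : (pullback (C₁ ↘ Spec (CommRingCat.of k)) (C₂ ↘ Spec (CommRingCat.of k))).Over
        (Spec (CommRingCat.of k)) := ⟨pullback.fst _ _ ≫ (C₁ ↘ Spec (CommRingCat.of k))⟩
    let S := pullback (C₁ ↘ Spec (CommRingCat.of k)) (C₂ ↘ Spec (CommRingCat.of k))
    IsProper (S ↘ Spec (CommRingCat.of k)) ∧ Smooth (S ↘ Spec (CommRingCat.of k)) ∧ IsIntegral S ∧
      topologicalKrullDim S = 2 ∧ ∃ H : S.Modules, CohB1.IsAmple H := by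
  letI : (pullback (C₁ ↘ Spec (CommRingCat.of k)) (C₂ ↘ Spec (CommRingCat.of k))).Over
        (Spec (CommRingCat.of k)) := ⟨pullback.fst _ _ ≫ (C₁ ↘ Spec (CommRingCat.of k))⟩
  intro S
  obtain ⟨hp₁, hs₁, hi₁, hd₁⟩ := h₁
  obtain ⟨hp₂, hs₂, hi₂, hd₂⟩ := h₂
  let q₁ := C₁ ↘ Spec (CommRingCat.of k)
  let q₂ := C₂ ↘ Spec (CommRingCat.of k)
  haveI hS : IsProper (S ↘ Spec (CommRingCat.of k)) := inferInstanceAs (IsProper (pullback.fst q₁ q₂ ≫ q₁))
  haveI hSs : Smooth (S ↘ Spec (CommRingCat.of k)) := inferInstanceAs (Smooth (pullback.fst q₁ q₂ ≫ q₁))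
  haveI : GeometricallyIrreducible q₂ := H19Grp.geometricallyIrreducible_of_irreducibleSpace q₂
  haveI : IrreducibleSpace S := inferInstanceAs (IrreducibleSpace ↥(pullback q₁ q₂))
  haveI : GeometricallyConnected (S ↘ Spec (CommRingCat.of k)) :=
    H19Grp.geometricallyConnected_of_connectedSpace _
  haveI hint : IsIntegral S := H29RR.isIntegral_of_geomConnected k S
  haveI : SmoothOfRelativeDimension 1 q₁ := H27CurveDiv.smoothOfRelativeDimension_of_dim q₁ 1 (by simpa using hd₁)
  haveI : SmoothOfRelativeDimension 1 q₂ := H27CurveDiv.smoothOfRelativeDimension_of_dim q₂ 1 (by simpa using hd₂)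
  haveI : SmoothOfRelativeDimension 1 (pullback.fst q₁ q₂) :=
    (smoothOfRelativeDimension_isStableUnderBaseChange (n := 1)).of_isPullback
      (IsPullback.of_hasPullback q₁ q₂).flip inferInstance
  haveI : SmoothOfRelativeDimension (1 + 1) (S ↘ Spec (CommRingCat.of k)) :=
    inferInstanceAs (SmoothOfRelativeDimension (1 + 1) (pullback.fst q₁ q₂ ≫ q₁))
  have hdim : topologicalKrullDim S = 2 := by
    obtain ⟨z⟩ := (inferInstance : Nonempty S)
    rw [← H8Props.FieldDim.localDim_eq_dim_of_irreducible (S ↘ Spec (CommRingCat.of k)) z,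
      H8Props.FieldDim.localDim_eq_of_smooth (S ↘ Spec (CommRingCat.of k)) (1 + 1) z]
    rfl
  obtain ⟨A₁, hA₁⟩ := H22Alg.CurveQProj.exists_ample k (X := C₁) hd₁.le
  obtain ⟨A₂, hA₂⟩ := H22Alg.CurveQProj.exists_ample k (X := C₂) hd₂.le
  exact ⟨hS, hSs, hint, hdim, _, H8Props.Ample.isAmple_prod q₁ q₂ hA₁ hA₂⟩

end product

section fibre

variable {S C C' : Scheme.{u}} [S.Over (Spec (CommRingCat.of k))] [C.Over (Spec (CommRingCat.of k))]
  [C'.Over (Spec (CommRingCat.of k))]
  [IsProper (S ↘ Spec (CommRingCat.of k))] [Smooth (S ↘ Spec (CommRingCat.of k))] [IsIntegral S]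
  [IsProper (C ↘ Spec (CommRingCat.of k))] [IsProper (C' ↘ Spec (CommRingCat.of k))] [IsIntegral C']

/-- The class of a fibre: the pairing with it is the degree on the fibre. -/
theorem exists_fibre_class [IsAlgClosed k] (hdim : topologicalKrullDim S = 2)
    (hC : Curve.IsSmoothProperCurve k C (C ↘ Spec (CommRingCat.of k))) (hC' : topologicalKrullDim C' = 1)
    (p : S ⟶ C) (i : C' ⟶ S) (hi : i ≫ (S ↘ Spec (CommRingCat.of k)) = C' ↘ Spec (CommRingCat.of k))
    (x : Spec (CommRingCat.of k) ⟶ C) (hx : x ≫ (C ↘ Spec (CommRingCat.of k)) = 𝟙 _)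
    (hpb : IsPullback i (C' ↘ Spec (CommRingCat.of k)) p x) :
    ∃ F : S.Modules, PicF.IsInvertible F ∧
      (∀ A : S.Modules, PicF.IsInvertible A →
        H28Surf.pr k F A = Curv2.deg k C' ((Scheme.Modules.pullback i).obj A) 1) ∧
      Curv2.deg k C' ((Scheme.Modules.pullback i).obj F) 1 = 0 ∧
      ∀ g : C ⟶ S, g ≫ p = 𝟙 C → Curv2.deg k C ((Scheme.Modules.pullback g).obj F) 1 = 1 := by
  haveI := H28Int.isNoetherian k (X := S)
  haveI := isClosedImmersion_section k x hx
  haveI : IsClosedImmersion i := MorphismProperty.of_isPullback hpb.flip inferInstance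
  obtain ⟨N, hN, hIx, ⟨eN⟩, hdeg⟩ := exists_point_class k hC x hx
  have hI := H28Int.isInvertible_idealMod_curve k hdim i hC'
  have hcomap : x.ker.comap p = i.ker := by
    rw [← Scheme.IdealSheafData.ker_fst_of_isClosedImmersion x p,
      ← Scheme.Hom.ker_comp_of_isIso hpb.isoPullback.hom (pullback.fst p x), IsPullback.isoPullback_hom_fst]
  obtain ⟨eI⟩ := H12Pic.CurveFam.nonempty_pullback_idealMod_comap p (I := x.ker)
    ((S8914.result x.ker).1 hIx) (by rw [hcomap]; exact (S8914.result i.ker).1 hI)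
  rw [hcomap] at eI
  let F := (Scheme.Modules.pullback p).obj N
  have hF : PicF.IsInvertible F := H11Ample.isInvertible_pullback p hN
  have eF : CohB1.tensorMod (ClSub.idealMod i.ker) F ≅ Coh.structureModule S :=
    PicGrp.tensorModIso eI.symm (Iso.refl _) ≪≫ (S11747.pullTensor p _ _).symm ≪≫
      (Scheme.Modules.pullback p).mapIso eN ≪≫ H16Derived.KFlat.Stalk.structurePullbackIso p
  refine ⟨F, hF, fun A hA => ?_, ?_, ?_⟩
  · have hiA := H11Ample.isInvertible_pullback i hA
    rw [H28Surf.pr_inv_left k hdim hI hF hA eF, ← H28Surf.intNum_eq_pr k hdim hI hA,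
      H28Surf.intNum_idealMod k hdim.le i.ker hI hA,
      (isAddFn_D k [A] (List.forall_mem_singleton.2 hA)).congr (H28Vert.quotModKerIso i),
      Curves.D_push_affine k i hi hA, deg_eq_D k hiA]
  · refine (deg_congr k ((Scheme.Modules.pullbackComp i p).app N)).trans ?_
    rw [deg_eq_D k (H11Ample.isInvertible_pullback (i ≫ p) hN), neg_eq_zero]
    exact Curves.D_pullback_const k (i ≫ p) (x := x (IsLocalRing.closedPoint k)) (fun y => by
      rw [hpb.w]; exact congrArg x (Subsingleton.elim (α := PrimeSpectrum k) _ _)) hN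
  · intro g hg
    rw [← hdeg]
    exact deg_congr k ((Scheme.Modules.pullbackComp g p).app N ≪≫ eqToIso (by rw [hg]) ≪≫
      (Scheme.Modules.pullbackId C).app N)

/-- The class of a fibre, as an inverse image: the pairing with it is the degree on the fibre. -/
theorem exists_fibre_class' [IsAlgClosed k] (hdim : topologicalKrullDim S = 2)
    (hC : Curve.IsSmoothProperCurve k C (C ↘ Spec (CommRingCat.of k))) (hC' : topologicalKrullDim C' = 1)
    (p : S ⟶ C) (i : C' ⟶ S) (hi : i ≫ (S ↘ Spec (CommRingCat.of k)) = C' ↘ Spec (CommRingCat.of k))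
    (x : Spec (CommRingCat.of k) ⟶ C) (hx : x ≫ (C ↘ Spec (CommRingCat.of k)) = 𝟙 _)
    (hpb : IsPullback i (C' ↘ Spec (CommRingCat.of k)) p x) :
    ∃ F : S.Modules, PicF.IsInvertible F ∧
      (∀ A : S.Modules, PicF.IsInvertible A →
        H28Surf.pr k F A = Curv2.deg k C' ((Scheme.Modules.pullback i).obj A) 1) ∧
      ∃ N : C.Modules, PicF.IsInvertible N ∧ Curv2.deg k C N 1 = 1 ∧
        Nonempty (F ≅ (Scheme.Modules.pullback p).obj N) := by
  haveI := H28Int.isNoetherian k (X := S)
  haveI := isClosedImmersion_section k x hx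
  haveI : IsClosedImmersion i := MorphismProperty.of_isPullback hpb.flip inferInstance
  obtain ⟨N, hN, hIx, ⟨eN⟩, hdeg⟩ := exists_point_class k hC x hx
  have hI := H28Int.isInvertible_idealMod_curve k hdim i hC'
  have hcomap : x.ker.comap p = i.ker := by
    rw [← Scheme.IdealSheafData.ker_fst_of_isClosedImmersion x p,
      ← Scheme.Hom.ker_comp_of_isIso hpb.isoPullback.hom (pullback.fst p x), IsPullback.isoPullback_hom_fst]
  obtain ⟨eI⟩ := H12Pic.CurveFam.nonempty_pullback_idealMod_comap p (I := x.ker)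
    ((S8914.result x.ker).1 hIx) (by rw [hcomap]; exact (S8914.result i.ker).1 hI)
  rw [hcomap] at eI
  let F := (Scheme.Modules.pullback p).obj N
  have hF : PicF.IsInvertible F := H11Ample.isInvertible_pullback p hN
  have eF : CohB1.tensorMod (ClSub.idealMod i.ker) F ≅ Coh.structureModule S :=
    PicGrp.tensorModIso eI.symm (Iso.refl _) ≪≫ (S11747.pullTensor p _ _).symm ≪≫
      (Scheme.Modules.pullback p).mapIso eN ≪≫ H16Derived.KFlat.Stalk.structurePullbackIso p
  refine ⟨F, hF, fun A hA => ?_, N, hN, hdeg, ⟨Iso.refl _⟩⟩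
  have hiA := H11Ample.isInvertible_pullback i hA
  rw [H28Surf.pr_inv_left k hdim hI hF hA eF, ← H28Surf.intNum_eq_pr k hdim hI hA,
    H28Surf.intNum_idealMod k hdim.le i.ker hI hA,
    (isAddFn_D k [A] (List.forall_mem_singleton.2 hA)).congr (H28Vert.quotModKerIso i),
    Curves.D_push_affine k i hi hA, deg_eq_D k hiA]

end fibre

end Groth.Agent.H27Prod
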